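import Groth.Prelude.Def_W4c6modpairsegaMP
import Mathlib.RingTheory.Smooth.IntegralClosure
import Mathlib.RingTheory.Localization.BaseChange
import Mathlib.AlgebraicGeometry.Morphisms.Etale
import Mathlib.RingTheory.Flat.TorsionFree

/-!
Integral closedness in the interior of a modulus pair passes to étale covers.
-/

set_option autoImplicit false
set_option linter.style.haveILetI false
set_option backward.isDefEq.respectTransparency false
set_option backward.isDefEq.respectTransparency.types false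

universe u

open CategoryTheory AlgebraicGeometry TopologicalSpace Opposite TensorProduct

namespace Groth.Agent.EtIntClosed

/-- Integral closedness in a localisation is preserved by smooth base change. -/
lemma mem_range_of_smooth {A B A' B' : Type u} [CommRing A] [CommRing B] [CommRing A'] [CommRing B']
    [Algebra A B] [Algebra.Smooth A B] [Algebra A A'] [Algebra B B'] (f : A)
    [IsLocalization.Away f A'] [IsLocalization.Away (algebraMap A B f) B']
    (h : ∀ s : A', IsIntegral A s → s ∈ Set.range (algebraMap A A')) {t : B'} (ht : IsIntegral B t) :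
    t ∈ Set.range (algebraMap B B') := by
  haveI : IsLocalization (Submonoid.powers (algebraMap A B f)) (B ⊗[A] A') := by
    have h' : IsLocalization (Algebra.algebraMapSubmonoid B (Submonoid.powers f)) (B ⊗[A] A') :=
      IsLocalization.tensor A' (Submonoid.powers f)
    rwa [show Algebra.algebraMapSubmonoid B (Submonoid.powers f) = Submonoid.powers (algebraMap A B f) from
      Submonoid.map_powers _ f] at h'
  let e : B ⊗[A] A' ≃ₐ[B] B' := IsLocalization.algEquiv (Submonoid.powers (algebraMap A B f)) _ _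
  have hx : IsIntegral B (e.symm t) := ht.map e.symm
  obtain ⟨y, hy⟩ := TensorProduct.toIntegralClosure_bijective_of_smooth.2 ⟨e.symm t, hx⟩
  have key : ∀ z : B ⊗[A] integralClosure A A', ∃ b : B,
      (TensorProduct.toIntegralClosure A B A' z : B ⊗[A] A') = algebraMap B (B ⊗[A] A') b := by
    intro z
    induction z with
    | zero => exact ⟨0, by simp⟩
    | add x y hx hy =>
      obtain ⟨bx, hbx⟩ := hx
      obtain ⟨bz, hbz⟩ := hy
      exact ⟨bx + bz, by simp [map_add, hbx, hbz]⟩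
    | tmul b s =>
      obtain ⟨a, ha⟩ := h (s : A') s.2
      refine ⟨a • b, ?_⟩
      show (Algebra.TensorProduct.map (AlgHom.id B B) (integralClosure A A').val) (b ⊗ₜ s) = _
      rw [Algebra.TensorProduct.map_tmul]
      show b ⊗ₜ[A] (s : A') = (a • b) ⊗ₜ[A] (1 : A')
      rw [← ha, TensorProduct.smul_tmul, Algebra.smul_def, mul_one]
  obtain ⟨b, hb⟩ := key y
  refine ⟨b, ?_⟩
  rw [hy] at hb
  have h2 : e (e.symm t) = e (algebraMap B _ b) := congrArg e hb
  rw [e.apply_symm_apply, e.commutes] at h2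
  exact h2.symm

variable {X : Scheme.{u}}

/-- Restriction to a smaller open. -/
abbrev res {U V : X.Opens} (h : V ≤ U) : Γ(X, U) →+* Γ(X, V) := (X.presheaf.map (homOfLE h).op).hom

lemma res_res {U V W : X.Opens} (h : V ≤ U) (h' : W ≤ V) (s : Γ(X, U)) :
    res h' (res h s) = res (h'.trans h) s := by
  rw [res, res, res, ← CommRingCat.comp_apply, ← X.presheaf.map_comp]
  rfl

lemma isIntegralElem_res {V W P Q : X.Opens} (h1 : P ≤ V) (h2 : W ≤ V) (h3 : Q ≤ P) (h4 : Q ≤ W)
    {t : Γ(X, P)} (ht : (res h1).IsIntegralElem t) : (res h4).IsIntegralElem (res h3 t) := by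
  obtain ⟨p, hp, hp0⟩ := ht
  refine ⟨p.map (res h2), hp.map _, ?_⟩
  have hcomp : (res h4).comp (res h2) = (res h3).comp (res h1) := RingHom.ext fun s => by
    rw [RingHom.comp_apply, RingHom.comp_apply, res_res, res_res]
  rw [Polynomial.eval₂_map, hcomp, ← Polynomial.hom_eval₂, hp0, map_zero]

lemma inf_interior_eq_basicOpen (I : X.IdealSheafData) (U : X.affineOpens) (f : Γ(X, U.1))
    (hf : I.ideal U = Ideal.span {f}) : U.1 ⊓ ModPair.interior I = X.basicOpen f := by
  apply Opens.ext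
  have h := I.coe_support_inter U
  rw [hf, Scheme.zeroLocus_span, Scheme.zeroLocus_singleton] at h
  ext x
  constructor
  · rintro ⟨hxU, hxi⟩
    by_contra hn
    have hm : x ∈ (X.basicOpen f : Set X)ᶜ ∩ (U.1 : Set X) := ⟨hn, hxU⟩
    rw [← h] at hm
    exact hxi hm.1
  · intro hx
    have hxU : x ∈ U.1 := X.basicOpen_le f hx
    refine ⟨hxU, fun hs => ?_⟩
    have hm : x ∈ (I.support : Set X) ∩ (U.1 : Set X) := ⟨hs, hxU⟩
    rw [h] at hm
    exact hm.1 hx

/-- The main statement. -/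
theorem mem_range_of_etale {X Y : Scheme.{u}} (IX : X.IdealSheafData) (hX : BlowUp.IsEffCartierIdeal IX)
    (hint : ∀ U ∈ X.affineOpens, ∀ s : Γ(X, U ⊓ ModPair.interior IX),
      (res (inf_le_left : U ⊓ ModPair.interior IX ≤ U)).IsIntegralElem s →
        s ∈ Set.range (res (inf_le_left : U ⊓ ModPair.interior IX ≤ U)))
    (g : Y ⟶ X) [Etale g] (V : Y.Opens) (t : Γ(Y, V ⊓ g ⁻¹ᵁ ModPair.interior IX))
    (ht : (res (inf_le_left : V ⊓ g ⁻¹ᵁ ModPair.interior IX ≤ V)).IsIntegralElem t) :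
    t ∈ Set.range (res (inf_le_left : V ⊓ g ⁻¹ᵁ ModPair.interior IX ≤ V)) := by
  -- small affine opens with injective restriction to the interior and a local solution
  have key : ∀ y ∈ V, ∀ O : Y.Opens, y ∈ O → ∃ (W : Y.Opens) (hW : W ≤ V), y ∈ W ∧ W ≤ O ∧
      Function.Injective (res (inf_le_left : W ⊓ g ⁻¹ᵁ ModPair.interior IX ≤ W)) ∧
      ∃ b : Γ(Y, W), res (inf_le_left : W ⊓ g ⁻¹ᵁ ModPair.interior IX ≤ W) b =
        res (inf_le_inf_right _ hW) t := by
    intro y hy O hyO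
    obtain ⟨U, hyU, f, hfd, hf⟩ := hX (g y)
    obtain ⟨W, hW, hyW, hWle⟩ := exists_isAffineOpen_mem_and_subset
      (show y ∈ g ⁻¹ᵁ U.1 ⊓ (V ⊓ O) from ⟨hyU, hy, hyO⟩)
    have hWU : W ≤ g ⁻¹ᵁ U.1 := hWle.trans inf_le_left
    have hWV : W ≤ V := fun z hz => (hWle hz).2.1
    have hWO : W ≤ O := fun z hz => (hWle hz).2.2
    refine ⟨W, hWV, hyW, hWO, ?_⟩
    algebraize [(g.appLE U.1 W hWU).hom]
    haveI : Algebra.Etale Γ(X, U.1) Γ(Y, W) := g.etale_appLE U.2 hW hWU
    letI : Algebra Γ(X, U.1) Γ(X, U.1 ⊓ ModPair.interior IX) :=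
      (res (inf_le_left : U.1 ⊓ ModPair.interior IX ≤ U.1)).toAlgebra
    letI : Algebra Γ(Y, W) Γ(Y, W ⊓ g ⁻¹ᵁ ModPair.interior IX) :=
      (res (inf_le_left : W ⊓ g ⁻¹ᵁ ModPair.interior IX ≤ W)).toAlgebra
    have hB := inf_interior_eq_basicOpen IX U f hf
    haveI : IsLocalization.Away f Γ(X, U.1 ⊓ ModPair.interior IX) :=
      U.2.isLocalization_of_eq_basicOpen f (homOfLE inf_le_left) hB
    have hB' : W ⊓ g ⁻¹ᵁ ModPair.interior IX = Y.basicOpen ((g.appLE U.1 W hWU).hom f) := by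
      rw [Scheme.Hom.appLE, CommRingCat.comp_apply, Scheme.basicOpen_res, ← Scheme.preimage_basicOpen, ← hB]
      ext z
      exact ⟨fun hz => ⟨hz.1, hWU hz.1, hz.2⟩, fun hz => ⟨hz.1, hz.2.2⟩⟩
    haveI : IsLocalization.Away (algebraMap Γ(X, U.1) Γ(Y, W) f) Γ(Y, W ⊓ g ⁻¹ᵁ ModPair.interior IX) :=
      hW.isLocalization_of_eq_basicOpen _ (homOfLE inf_le_left) hB'
    refine ⟨IsLocalization.injective _ (M := Submonoid.powers (algebraMap Γ(X, U.1) Γ(Y, W) f)) ?_, ?_⟩
    · refine Submonoid.powers_le.2 ?_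
      rw [mem_nonZeroDivisors_iff_right]
      intro z hz
      haveI : Module.Flat Γ(X, U.1) Γ(Y, W) := g.flat_appLE U.2 hW hWU
      exact (Module.Flat.isSMulRegular_of_nonZeroDivisors (M := Γ(Y, W)) hfd)
        (show f • z = f • 0 by rw [smul_zero, Algebra.smul_def, mul_comm, hz])
    · exact mem_range_of_smooth (A := Γ(X, U.1)) (A' := Γ(X, U.1 ⊓ ModPair.interior IX)) f
        (hint U.1 U.2) (isIntegralElem_res (inf_le_left) hWV (inf_le_inf_right _ hWV) inf_le_left ht)
  choose W hWV hyW _ hinjW b hb using fun y : V => key y.1 y.2 V y.2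
  have hcompat : TopCat.Presheaf.IsCompatible Y.presheaf W b := by
    intro i j
    refine TopCat.Sheaf.eq_of_locally_eq' Y.sheaf
      (fun z : ↥(W i ⊓ W j) => (key z.1 (hWV i z.2.1) (W i ⊓ W j) z.2).choose) (W i ⊓ W j)
      (fun z => homOfLE (key z.1 (hWV i z.2.1) (W i ⊓ W j) z.2).choose_spec.choose_spec.2.1)
      (fun z hz => Opens.mem_iSup.2 ⟨⟨z, hz⟩, (key z (hWV i hz.1) (W i ⊓ W j) hz).choose_spec.choose_spec.1⟩)
      _ _ fun z => ?_
    obtain ⟨hW', hzW', hW'le, hinj, -⟩ := (key z.1 (hWV i z.2.1) (W i ⊓ W j) z.2).choose_spec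
    apply hinj
    show res _ (res _ (res _ (b i))) = res _ (res _ (res _ (b j)))
    simp only [res_res]
    rw [← res_res (inf_le_left : W i ⊓ g ⁻¹ᵁ ModPair.interior IX ≤ W i)
        (inf_le_inf_right _ (hW'le.trans inf_le_left)) (b i),
      ← res_res (inf_le_left : W j ⊓ g ⁻¹ᵁ ModPair.interior IX ≤ W j)
        (inf_le_inf_right _ (hW'le.trans inf_le_right)) (b j), hb, hb, res_res, res_res]
  obtain ⟨s, hs, -⟩ := TopCat.Sheaf.existsUnique_gluing' Y.sheaf W V (fun y => homOfLE (hWV y))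
    (fun y hy => Opens.mem_iSup.2 ⟨⟨y, hy⟩, hyW ⟨y, hy⟩⟩) b hcompat
  refine ⟨s, TopCat.Sheaf.eq_of_locally_eq' Y.sheaf (fun y : V => W y ⊓ g ⁻¹ᵁ ModPair.interior IX) _
    (fun y => homOfLE (inf_le_inf_right _ (hWV y)))
    (fun y hy => Opens.mem_iSup.2 ⟨⟨y, hy.1⟩, hyW ⟨y, hy.1⟩, hy.2⟩) _ _ fun y => ?_⟩
  show res _ (res _ s) = res _ t
  rw [← hb y, res_res]
  conv_rhs => rw [show b y = res (hWV y) s from (hs y).symm, res_res]

end Groth.Agent.EtIntClosed
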